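import Cfsg.Agent.L0.Suz.Cov2T

/-! Generated checks. -/

set_option autoImplicit false
set_option maxRecDepth 100000

namespace Cfsg.Agent.L0.SuzCov2

theorem b0 : allR chk 10 0 = true := by decide +kernel
theorem b1 : allR chk 10 1 = true := by decide +kernel
theorem b2 : allR chk 10 2 = true := by decide +kernel
theorem b3 : allR chk 10 3 = true := by decide +kernel
theorem b4 : allR chk 10 4 = true := by decide +kernel
theorem b5 : allR chk 10 5 = true := by decide +kernel
theorem b6 : allR chk 10 6 = true := by decide +kernel
theorem b7 : allR chk 10 7 = true := by decide +kernel
theorem b8 : allR chk 10 8 = true := by decide +kernel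
theorem b9 : allR chk 10 9 = true := by decide +kernel
theorem b10 : allR chk 10 10 = true := by decide +kernel
theorem b11 : allR chk 10 11 = true := by decide +kernel
theorem b12 : allR chk 10 12 = true := by decide +kernel
theorem b13 : allR chk 10 13 = true := by decide +kernel
theorem b14 : allR chk 10 14 = true := by decide +kernel
theorem b15 : allR chk 10 15 = true := by decide +kernel
theorem b16 : allR chk 10 16 = true := by decide +kernel
theorem b17 : allR chk 10 17 = true := by decide +kernel
theorem b18 : allR chk 10 18 = true := by decide +kernel
theorem b19 : allR chk 10 19 = true := by decide +kernel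
theorem b20 : allR chk 10 20 = true := by decide +kernel
theorem b21 : allR chk 10 21 = true := by decide +kernel
theorem b22 : allR chk 10 22 = true := by decide +kernel
theorem b23 : allR chk 10 23 = true := by decide +kernel

end Cfsg.Agent.L0.SuzCov2
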