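import Cfsg.Agent.L0.Suz.Cov2T

/-! Generated checks. -/

set_option autoImplicit false
set_option maxRecDepth 100000

namespace Cfsg.Agent.L0.SuzCov2

theorem b24 : allR chk 10 24 = true := by decide +kernel
theorem b25 : allR chk 10 25 = true := by decide +kernel
theorem b26 : allR chk 10 26 = true := by decide +kernel
theorem b27 : allR chk 10 27 = true := by decide +kernel
theorem b28 : allR chk 10 28 = true := by decide +kernel
theorem b29 : allR chk 10 29 = true := by decide +kernel
theorem b30 : allR chk 10 30 = true := by decide +kernel
theorem b31 : allR chk 10 31 = true := by decide +kernel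

end Cfsg.Agent.L0.SuzCov2
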