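import Cfsg.Agent.L0.Cox
import Cfsg.Prelude.Def_Spor_Suz
import Cfsg.Agent.L0.Suz.Act
import Cfsg.Agent.L0.Suz.Tc6
import Cfsg.Agent.L0.Suz.Tc5
import Cfsg.Agent.L0.Suz.Tc4
import Cfsg.Agent.L0.Suz.Tc3
import Cfsg.Agent.L0.Suz.Tc2
import Cfsg.Agent.L0.Suz.Tc1

/-! The presented group Suz: order bound and permutation action. -/

set_option autoImplicit false
set_option maxRecDepth 100000

namespace Cfsg.Agent.L0.SuzG

open Cfsg.Spor

/-- letter of a generator -/
def idx : Suz.Gen → ℕ
  | .a => 0
  | .b => 1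
  | .c => 2
  | .d => 3
  | .e => 4
  | .f => 5
  | .g => 6

/-- letter of the inverse of a generator -/
def iv : Suz.Gen → ℕ
  | .a => 0
  | .b => 1
  | .c => 2
  | .d => 3
  | .e => 4
  | .f => 5
  | .g => 6

/-- all generators -/
def all : List Suz.Gen := [.a, .b, .c, .d, .e, .f, .g]

/-- the letters -/
def x (i : ℕ) : Suz := ([PresentedGroup.of .a, PresentedGroup.of .b, PresentedGroup.of .c, PresentedGroup.of .d, PresentedGroup.of .e, PresentedGroup.of .f, PresentedGroup.of .g] : List Suz).getD i 1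

theorem hall : ∀ a, a ∈ all := by intro a; cases a <;> decide

theorem hx : ∀ a, x (idx a) = PresentedGroup.of a := by intro a; cases a <;> rfl

theorem hiv : ∀ a, x (iv a) = (PresentedGroup.of a)⁻¹ := by
  intro a; cases a <;> first | exact cox_inv (by decide) | rfl

/-- the defining relators -/
def R0 : List (List ℕ) := coxR idx iv Suz.edges Suz.extra all

theorem rel0 : ∀ r ∈ R0, ev x r = 1 := cox_rel hx hiv

theorem gen_top : genL x [0, 1, 2, 3, 4, 5, 6] = ⊤ := cox_genL hx (by intro a; cases a <;> decide)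

theorem card_le : Finite Suz ∧ Nat.card Suz ≤ 448345497600 := by
  have := (SuzTc1.bound (rel_sub (R := R0) rel0 (by decide +kernel))
    (SuzTc2.bound (rel_sub (R := R0) rel0 (by decide +kernel))
    (SuzTc3.bound (rel_sub (R := R0) rel0 (by decide +kernel))
    (SuzTc4.bound (rel_sub (R := R0) rel0 (by decide +kernel))
    (SuzTc5.bound (rel_sub (R := R0) rel0 (by decide +kernel))
    (SuzTc6.bound (rel_sub (R := R0) rel0 (by decide +kernel))
    (cardLe_nil x))))))).top gen_top
  simpa using this

theorem exists_act : ∃ A : RAct Suz 1782, A.Tab x 7 SuzAct.T :=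
  exists_ract_cox (R := SuzAct.R) hall hx hiv (by decide +kernel) (by decide +kernel)
    (by decide +kernel) (by decide +kernel) le_rfl SuzAct.all

end Cfsg.Agent.L0.SuzG
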